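import Mathlib
import Cfsg.Agent.Lib.Spn.SpB
import Cfsg.Prelude.Def_KGroupFacts
import Cfsg.Agent.S0447
import Cfsg.Agent.Lib.AltCover.Mult

/-! Package SPC: the double cover of the alternating group and its uniqueness.  See `plans/SPN.md`. -/

set_option autoImplicit false
set_option linter.unusedSectionVars false

namespace CfsgLib.Spn

open Equiv Finset Cfsg CfsgLib.SymChar CfsgLib.Char
open scoped Nat ComplexConjugate commutatorElement

variable {G : Type*} [Group G] [Finite G] {Ω : Type*} [Fintype Ω] [DecidableEq Ω] (S : Sp G Ω)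

theorem spc_four (h : 4 ≤ Fintype.card Ω) :
    ∃ a b c d : Ω, a ≠ b ∧ a ≠ c ∧ a ≠ d ∧ b ≠ c ∧ b ≠ d ∧ c ≠ d := by
  obtain ⟨e⟩ : Nonempty (Fin 4 ↪ Ω) := Function.Embedding.nonempty_of_card_le (by simpa using h)
  refine ⟨e 0, e 1, e 2, e 3, ?_, ?_, ?_, ?_, ?_, ?_⟩ <;> exact e.injective.ne (by decide)

theorem Sp.spc_mem {a b c d : Ω} (hab : a ≠ b) (hcd : c ≠ d) : S.u a b * S.u c d ∈ S.ev := by
  rw [Sp.mem_ev, map_mul, S.π_u, S.π_u, map_mul, Perm.sign_swap hab, Perm.sign_swap hcd]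
  simp

theorem Sp.spc_sq {a b c d : Ω} (hab : a ≠ b) (hac : a ≠ c) (had : a ≠ d) (hbc : b ≠ c)
    (hbd : b ≠ d) (hcd : c ≠ d) : S.u a b * S.u c d * (S.u a b * S.u c d) = S.z := by
  have h1 := S.u_anti hcd hab hac had hbc hbd
  calc S.u a b * S.u c d * (S.u a b * S.u c d)
      = S.u a b * (S.u c d * S.u a b) * S.u c d := by group
    _ = (S.u a b * S.z) * S.u a b * (S.u c d * S.u c d) := by rw [h1]; group
    _ = S.z * (S.u a b * S.u a b) * (S.u c d * S.u c d) := by rw [S.z_comm]; group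
    _ = S.z := by rw [S.u_mul_self hab, S.u_mul_self hcd, mul_one, mul_one]

theorem Sp.stem (h : 4 ≤ Fintype.card Ω) : IsStemExtension S.πe := by
  obtain ⟨a, b, c, d, hab, hac, had, hbc, hbd, hcd⟩ := spc_four h
  refine ⟨S.πe_surj, fun g hg => ?_, fun g hg => ?_⟩
  · rw [Subgroup.mem_center_iff]
    intro x
    apply Subtype.ext
    rcases S.mem_ker_πe.1 hg with h1 | h1
    · simp [h1]
    · simp [h1, S.z_comm]
  · rcases S.mem_ker_πe.1 hg with h1 | h1
    · rw [show g = 1 from Subtype.ext h1]; exact one_mem _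
    · have hx := S.spc_mem hab hcd
      have hy := S.spc_mem hac hbd
      have e1 := S.conj_u_of_mem hx hac
      have e2 := S.conj_u_of_mem hx hbd
      have pa : S.π (S.u a b * S.u c d) a = b := by
        rw [map_mul, S.π_u, S.π_u, Perm.mul_apply, swap_apply_of_ne_of_ne hac had, swap_apply_left]
      have pb : S.π (S.u a b * S.u c d) b = a := by
        rw [map_mul, S.π_u, S.π_u, Perm.mul_apply, swap_apply_of_ne_of_ne hbc hbd, swap_apply_right]
      have pc : S.π (S.u a b * S.u c d) c = d := by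
        rw [map_mul, S.π_u, S.π_u, Perm.mul_apply, swap_apply_left,
          swap_apply_of_ne_of_ne had.symm hbd.symm]
      have pd : S.π (S.u a b * S.u c d) d = c := by
        rw [map_mul, S.π_u, S.π_u, Perm.mul_apply, swap_apply_right,
          swap_apply_of_ne_of_ne hac.symm hbc.symm]
      rw [pa, pc] at e1
      rw [pb, pd] at e2
      have h2 := S.u_anti hbd hac hab had hbc.symm hcd
      have h3 : g = ⁅(⟨_, hx⟩ : S.ev), (⟨_, hy⟩ : S.ev)⁆ := by
        apply Subtype.ext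
        rw [h1, commutatorElement_def]
        simp only [Subgroup.coe_mul, Subgroup.coe_inv]
        generalize S.u a b * S.u c d = x at e1 e2 ⊢
        calc S.z = S.u b d * S.u a c * (S.u a c * S.u b d)⁻¹ := by rw [h2]; group
          _ = (x * S.u a c * x⁻¹) * (x * S.u b d * x⁻¹) * (S.u a c * S.u b d)⁻¹ := by rw [e1, e2]
          _ = _ := by group
      rw [h3]
      exact Subgroup.commutator_mem_commutator (Subgroup.mem_top _) (Subgroup.mem_top _)

theorem Sp.unique_invol (h : Fintype.card Ω ≤ 7) {g : G} (hg : g ∈ S.ev) (h2 : g * g = 1) :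
    g = 1 ∨ g = S.z := by
  by_cases h1 : S.π g = 1
  · exact (S.ker g).1 h1
  exfalso
  obtain ⟨h4, hc⟩ := Cfsg.Agent.S0447.cycleType_eq h (t := S.π g)
    (by rw [sq, ← map_mul, h2, map_one]) h1 hg
  obtain ⟨a, b, c, d, hab, hac, had, hbc, hbd, hcd⟩ := spc_four h4
  have hc' : (swap a b * swap c d).cycleType = {2, 2} :=
    Perm.cycleType_swap_mul_swap_of_nodup (by simp [hab, hac, had, hbc, hbd, hcd])
  obtain ⟨k, hk⟩ := isConj_iff.1 (Perm.isConj_of_cycleType_eq (hc.trans hc'.symm))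
  obtain ⟨k, rfl⟩ := S.surj k
  have h5 : S.π (k * g * k⁻¹) = S.π (S.u a b * S.u c d) := by
    rw [map_mul, map_mul, map_inv, hk, map_mul, S.π_u, S.π_u]
  have h6 : k * g * k⁻¹ * (k * g * k⁻¹) = 1 := by
    calc k * g * k⁻¹ * (k * g * k⁻¹) = k * (g * g) * k⁻¹ := by group
      _ = 1 := by rw [h2]; group
  have h7 := S.spc_sq hab hac had hbc hbd hcd
  apply S.z_ne_one
  rcases S.eq_or_eq h5 with h8 | h8
  · rw [← h7, ← h8, h6]
  · rw [h8] at h6
    generalize S.u a b * S.u c d = w at h6 h7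
    calc S.z = (S.z * S.z) * (w * w) := by rw [S.z_mul_z, h7, one_mul]
      _ = S.z * (S.z * w) * w := by group
      _ = S.z * (w * S.z) * w := by rw [S.z_comm w]
      _ = 1 := by rw [← h6]; group

theorem spc_stem_comm {E Q : Type*} [Group E] [Group Q] [Group.IsPerfect Q] {σ : E →* Q}
    (h : Schur.IsCentralExt σ) : IsStemExtension (σ.comp (commutator E).subtype) := by
  have h1 : (commutator E).map σ = ⊤ := by
    rw [commutator_def, Subgroup.map_commutator, ← MonoidHom.range_eq_map,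
      MonoidHom.range_eq_top.2 h.surj, ← commutator_def, Group.IsPerfect.commutator_eq_top]
  have h2 : ∀ q : Q, ∃ y ∈ commutator E, σ y = q := fun q =>
    Subgroup.mem_map.1 (h1 ▸ Subgroup.mem_top q)
  have h3 : commutator E = ⁅commutator E, commutator E⁆ := by
    refine Schur.commutator_eq_of_sup_center fun x => ?_
    obtain ⟨y, hy, e⟩ := h2 (σ x)
    exact ⟨y, hy, h.central (by rw [MonoidHom.mem_ker, map_mul, map_inv, e, inv_mul_cancel])⟩
  have h4 : commutator (commutator E) = ⊤ := by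
    apply Subgroup.map_injective (commutator E).subtype_injective
    rw [Subgroup.map_subtype_commutator, ← h3, ← MonoidHom.range_eq_map, Subgroup.range_subtype]
  refine ⟨fun q => ?_, fun x hx => ?_, h4 ▸ le_top⟩
  · obtain ⟨y, hy, e⟩ := h2 q
    exact ⟨⟨y, hy⟩, e⟩
  · rw [Subgroup.mem_center_iff]
    intro g
    exact Subtype.ext (h.comm hx g)

theorem nonempty_equiv_of_card_two {m : ℕ} (hm : 4 ≤ m) {Γ₁ Γ₂ : Type*} [Group Γ₁] [Group Γ₂]
    [Finite Γ₁] [Finite Γ₂] {σ₁ : Γ₁ →* alternatingGroup (Fin (m + 1))}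
    {σ₂ : Γ₂ →* alternatingGroup (Fin (m + 1))} (h₁ : IsStemExtension σ₁) (h₂ : IsStemExtension σ₂)
    (k₁ : Nat.card σ₁.ker = 2) (k₂ : Nat.card σ₂.ker = 2) : Nonempty (Γ₁ ≃* Γ₂) := by
  have : Group.IsPerfect (alternatingGroup (Fin (m + 1))) :=
    ⟨commutator_alternatingGroup_eq_top (by simpa using hm)⟩
  have := Schur.perfect_of_stem h₁
  have c₁ := Schur.centralExt_of_stem h₁
  have c₂ := Schur.centralExt_of_stem h₂
  have hc := Schur.isCentralExt_pb c₁ c₂
  have sq₁ : ∀ x, σ₁ x = 1 → x ^ 2 = 1 := fun x hx => by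
    have : (⟨x, hx⟩ : σ₁.ker) ^ 2 = 1 := by rw [← k₁, pow_card_eq_one']
    exact congrArg Subtype.val this
  have sq₂ : ∀ x, σ₂ x = 1 → x ^ 2 = 1 := fun x hx => by
    have : (⟨x, hx⟩ : σ₂.ker) ^ 2 = 1 := by rw [← k₂, pow_card_eq_one']
    exact congrArg Subtype.val this
  have hsq : ∀ x : Schur.pullback σ₁ σ₂, σ₁ x.1.1 = 1 → x ^ 2 = 1 := fun x hx => by
    apply Subtype.ext
    apply Prod.ext
    · exact sq₁ _ hx
    · exact sq₂ _ ((Schur.mem_pullback.1 x.2).symm.trans hx)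
  obtain ⟨b, hb1, hb2, hb⟩ := AltCover.ker_le_of_noTors_three (by omega) (spc_stem_comm hc)
    (fun z hz h3 => AltCover.eq_one_of_prim (p := 2) (q := 3) (k := 1) (l := 1) (by norm_num)
      (Subtype.ext (hsq z.1 hz)) h3)
  have hmem : ∀ x : Schur.pullback σ₁ σ₂, σ₁ x.1.1 = 1 → x ∈ commutator _ → x = 1 ∨ x = b := by
    intro x hx hx'
    obtain ⟨k, hk⟩ := Subgroup.mem_zpowers_iff.1 (hb (show (⟨x, hx'⟩ : commutator _) ∈ _ from hx))
    have hk' : (b : Schur.pullback σ₁ σ₂) ^ k = x := congrArg Subtype.val hk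
    have hb2' : (b : Schur.pullback σ₁ σ₂) ^ (2 : ℤ) = 1 := by
      rw [zpow_two, ← sq]; exact congrArg Subtype.val hb2
    rcases Int.even_or_odd' k with ⟨j, rfl | rfl⟩
    · left; rw [← hk', zpow_mul, hb2', one_zpow]
    · right; rw [← hk', zpow_add, zpow_mul, hb2', one_zpow, one_mul, zpow_one]
  have hbot : Schur.stemKer (Schur.pbFst σ₁ σ₂) = ⊥ := by
    rw [eq_bot_iff]
    intro x hx
    obtain ⟨hx1, hx2⟩ := Schur.mem_stemKer.1 hx
    have hx3 : x.1.1 = 1 := hx1
    obtain ⟨w, hw, -⟩ := (Nat.card_eq_two_iff' (1 : σ₁.ker)).1 k₁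
    have hw' : (w : Γ₁) ∈ (Schur.stemKer (σ₁.comp (Schur.pbFst σ₁ σ₂))).map (Schur.pbFst σ₁ σ₂) := by
      rw [Schur.map_stemKer_of_lift hc.surj c₁.central (Schur.pbFst σ₁ σ₂) rfl,
        Schur.stemKer_eq_ker_of_stem h₁]
      exact w.2
    obtain ⟨y, hy, e⟩ := hw'
    obtain ⟨hy1, hy2⟩ := Schur.mem_stemKer.1 hy
    rcases hmem x (by rw [hx3, map_one]) hx2 with h5 | h5
    · exact h5
    · exfalso
      apply hw
      apply Subtype.ext
      rcases hmem y hy1 hy2 with h6 | h6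
      · rw [← e, h6, map_one]; rfl
      · rw [← e, h6, ← h5, hx1]; rfl
  obtain ⟨s, hs⟩ := Schur.exists_section_of_perfect (Schur.pbFst_surjective σ₁ c₂.surj) hbot
  obtain ⟨η, hη⟩ := Schur.exists_lift_of_section s hs
  refine ⟨MulEquiv.ofBijective η (Schur.nonempty_mulEquiv_of_surj_of_card_le η
    (Schur.surjective_of_lift c₁.surj h₂ η hη) ?_)⟩
  rw [Schur.card_eq_card_ker_mul c₁.surj, Schur.card_eq_card_ker_mul c₂.surj, k₁, k₂]

end CfsgLib.Spn
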