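import Mathlib
import Cfsg.Agent.Lib.Spn.Red
import Cfsg.Agent.Lib.Spn.SpC
import Cfsg.Agent.Lib.Spn.Pin
import Cfsg.Agent.Lib.Cover.Quot2
import Cfsg.Agent.Lib.Frob.Quaternion

/-! Package SM6: the sixfold covers, the prime two.  See `plans/SPN.md`. -/

set_option autoImplicit false
set_option linter.unusedSectionVars false

namespace CfsgLib.Spn

open Equiv Finset Cfsg CfsgLib.SymChar CfsgLib.Char
open scoped Nat ComplexConjugate

variable {H : Type*} [Group H] [Finite H] {m : ℕ} {M : Ideal AlgInt}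
  {σ : H →* alternatingGroup (Fin (m + 1))}

open Equiv.Perm AltCover Schur in
theorem invol_mem_ker (hm : m = 5 ∨ m = 6) (hσ : IsStemExtension σ) (h6 : Nat.card σ.ker = 6)
    {x : H} (hx : x * x = 1) : x ∈ σ.ker := by
  have hm3 : 3 ≤ m := by omega
  have : Fact (Nat.Prime 2) := ⟨Nat.prime_two⟩
  obtain ⟨⟨t, tZ⟩, ht⟩ := exists_prime_orderOf_dvd_card' (G := σ.ker) 2 (by rw [h6]; norm_num)
  rw [Subgroup.orderOf_mk] at ht
  have t2 : t ^ 2 = 1 := ht ▸ pow_orderOf_eq_one t
  have t1 : t ≠ 1 := fun h => by simp [h] at ht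
  by_contra hne
  have hc0 := centralExt_of_stem hσ
  have := hc0.normal_of_le_ker (prim_le hc0 3)
  have hs := quot_stem hσ _ (prim_le hc0 3)
  have hZ3 := noTors_quot_prim hc0 3
  set τ := QuotientGroup.lift (prim hc0 3) σ (prim_le hc0 3)
  have hτ := centralExt_of_stem hs
  obtain ⟨b, -, b2, hb⟩ := ker_le_of_noTors_three hm3 hs hZ3
  have hZ2 : ∀ z, τ z = 1 → z ^ 2 = 1 := fun z hz => by
    obtain ⟨k, rfl⟩ := hb hz
    rw [← zpow_natCast, ← zpow_mul, mul_comm, zpow_mul, zpow_natCast, b2, one_zpow]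
  obtain ⟨y, hy⟩ : ∃ y : H ⧸ prim hc0 3, y = x := ⟨_, rfl⟩
  have hy2 : y ^ 2 = 1 := by rw [hy, ← QuotientGroup.mk_pow, pow_two, hx]; rfl
  have h2 : ((τ y : Perm (Fin (m + 1)))) ^ 2 = 1 := by
    rw [← Subgroup.coe_pow, ← map_pow, hy2, map_one]; rfl
  obtain ⟨-, hc⟩ := Cfsg.Agent.S0447.cycleType_eq (by rw [Fintype.card_fin]; omega) h2
    (fun h => hne (Subtype.ext (by rw [hy] at h; exact h))) (τ y).2
  obtain ⟨u, v, hu, hv⟩ := exists_isV_pair hm3 hτ hZ3
  obtain ⟨g, hg⟩ := Cfsg.Agent.S0447.exists_conj_X hm3 (τ y) hc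
  obtain ⟨g, rfl⟩ := hτ.surj g
  have h1 : τ ((u⁻¹ * v * u⁻¹)⁻¹ * (g * y * g⁻¹)) = 1 := by
    rw [map_mul, map_inv, hu.word_X le_rfl (by omega) hv, map_mul, map_mul, map_inv, hg,
      inv_mul_cancel]
  have h2 := (show Commute (u⁻¹ * v * u⁻¹) _ from hτ.comm h1 _).mul_pow 2
  rw [mul_inv_cancel_left, conj_pow, hy2, hZ2 _ h1, hu.word_sq hτ hm3 hv] at h2
  obtain ⟨s, hs'⟩ := exists_section_three hm3 hτ hZ3 hu hv (by simpa using h2.symm)
  obtain ⟨-, k, hk'⟩ := ker_le_of_quot _ (prim_le hc0 3) (ker_eq_bot_of_section hs s hs') tZ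
  exact t1 (eq_one_of_prim (p := 2) (q := 3) (k := 1) (by norm_num) t2 hk')

section perm
open Equiv.Perm
variable {α : Type*} [Fintype α] [DecidableEq α]

theorem sm6_pow_four (h : Fintype.card α ≤ 7) {g : Perm α} {k : ℕ} (hg : g ^ 2 ^ k = 1) :
    g ^ 4 = 1 := by
  rw [← orderOf_dvd_iff_pow_eq_one, ← lcm_cycleType, Multiset.lcm_dvd]
  intro n hn
  have h1 : n ∣ 2 ^ k := (dvd_of_mem_cycleType hn).trans (orderOf_dvd_of_pow_eq_one hg)
  have h2 : n ≤ 7 := ((Multiset.le_sum_of_mem hn).trans (sum_cycleType_le g)).trans h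
  obtain ⟨j, -, rfl⟩ := (Nat.dvd_prime_pow Nat.prime_two).1 h1
  have hj : j ≤ 2 := by
    by_contra hj
    have := Nat.pow_le_pow_right two_pos (show 3 ≤ j by omega)
    omega
  exact pow_dvd_pow 2 hj

theorem sm6_cycleType (h : Fintype.card α ≤ 7) {g : Perm α} (h4 : g ^ 4 = 1) (h2 : g ^ 2 ≠ 1)
    (hs : sign g = 1) : g.cycleType = {4, 2} := by
  have hd : ∀ n ∈ g.cycleType, n = 2 ∨ n = 4 := by
    intro n hn
    have h1 : n ∣ 4 := (dvd_of_mem_cycleType hn).trans (orderOf_dvd_of_pow_eq_one h4)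
    have h2 := two_le_of_mem_cycleType hn
    have h3 := Nat.le_of_dvd (by norm_num) h1
    interval_cases n
    · exact .inl rfl
    · exact absurd h1 (by norm_num)
    · exact .inr rfl
  have hm : 4 ∈ g.cycleType := by
    by_contra h4'
    apply h2
    rw [← orderOf_dvd_iff_pow_eq_one, ← lcm_cycleType, Multiset.lcm_dvd]
    intro n hn
    rcases hd n hn with rfl | rfl
    · rfl
    · exact absurd hn h4'
  obtain ⟨c, hc⟩ := Multiset.exists_cons_of_mem hm
  have h3 := sum_cycleType_le g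
  rw [sign_of_cycleType] at hs
  rw [hc] at h3 hs hd ⊢
  rw [Multiset.sum_cons] at h3
  have hc2 : c = Multiset.replicate (Multiset.card c) 2 := by
    rw [Multiset.eq_replicate_card]
    intro b hb
    have := Multiset.le_sum_of_mem hb
    rcases hd b (Multiset.mem_cons_of_mem hb) with h | h <;> omega
  generalize Multiset.card c = k at hc2
  subst hc2
  simp only [Multiset.sum_replicate, smul_eq_mul, Multiset.sum_cons, Multiset.card_cons,
    Multiset.card_replicate] at h3 hs
  have : k ≤ 1 := by omega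
  interval_cases k
  · exfalso; revert hs; decide
  · rfl

theorem sm6_eq_one (h : Fintype.card α ≤ 7) {g y : Perm α} (h4 : g ^ 4 = 1) (h2 : g ^ 2 ≠ 1)
    (hs : sign g = 1) (hc : y * g = g * y) (hy : ¬ 2 ∣ orderOf y) : y = 1 := by
  have h1 := sm6_cycleType h h4 h2 hs
  have h3 := sum_cycleType_le g
  have h5 := nat_card_centralizer g
  rw [h1] at h3 h5
  have h6 : Nat.card (Subgroup.centralizer ({g} : Set (Perm α))) = 2 ^ 3 := by
    rw [h5]
    have e1 : ({4, 2} : Multiset ℕ).sum = 6 := by decide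
    rw [e1] at h3 ⊢
    have : (Fintype.card α - 6)! = 1 := by
      rw [Nat.factorial_eq_one]; omega
    rw [this]
    decide
  have h7 : orderOf y ∣ 2 ^ 3 :=
    h6 ▸ Subgroup.orderOf_dvd_natCard _ (Subgroup.mem_centralizer_singleton_iff.2 hc)
  obtain ⟨j, -, hj⟩ := (Nat.dvd_prime_pow Nat.prime_two).1 h7
  rcases j with _ | j
  · simpa using hj
  · exact absurd (hj ▸ dvd_pow_self 2 (Nat.succ_ne_zero j)) hy

end perm

theorem sm6_unique (hm : m = 5 ∨ m = 6) (hσ : IsStemExtension σ) (h6 : Nat.card σ.ker = 6) :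
    ∃ z : H, ∀ a : H, a * a = 1 → a = 1 ∨ a = z := by
  obtain ⟨c, hc, -, c6⟩ := AltCover.ker_le_six (by omega) hσ
  refine ⟨c ^ 3, fun a ha => ?_⟩
  obtain ⟨k, hk⟩ := hc (invol_mem_ker hm hσ h6 ha)
  have h1 : a = (c ^ 3) ^ k := by
    have : a = a ^ 3 := by rw [pow_succ, pow_two, ha, one_mul]
    rw [this, ← hk, ← zpow_natCast, ← zpow_natCast, ← zpow_mul, ← zpow_mul, mul_comm]
  have h2 : (c ^ 3) ^ (2 : ℤ) = 1 := by rw [zpow_two, ← pow_add]; exact c6
  obtain ⟨j, rfl | rfl⟩ := Int.even_or_odd' k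
  · left; rw [h1, zpow_mul, h2, one_zpow]
  · right; rw [h1, zpow_add, zpow_mul, h2, one_zpow, one_mul, zpow_one]

theorem all_small_six (hm : m = 5 ∨ m = 6) (hσ : IsStemExtension σ) (h6 : Nat.card σ.ker = 6)
    (hM : IsPModular 2 M) : All 2 M H := by
  intro B hB D hD χ hχ
  have : Fact (Nat.Prime 2) := ⟨Nat.prime_two⟩
  obtain ⟨z, hz⟩ := sm6_unique hm hσ h6
  have hP := Block.isPGroup_of_isDefectGroup hD
  have hz' : ∀ x : D, orderOf x = 2 → (x : H) = z := by
    intro x hx
    refine (hz x ?_).resolve_left fun h => ?_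
    · rw [← Subgroup.coe_mul, ← pow_two, ← hx, pow_orderOf_eq_one]; rfl
    · rw [show x = 1 from Subtype.ext h] at hx; simp at hx
  rcases Frob.exists_gens_of_forall_mem_zpowers hP (fun x y hx hy => by
    rw [show y = x from Subtype.ext ((hz' y hy).trans (hz' x hx).symm)]
    exact Subgroup.mem_zpowers x) with hc | ⟨-, a, b, k, hi, ha, hb, hk, -, hba⟩
  · obtain ⟨x, hx⟩ := hc.exists_generator
    have hox : orderOf x = Nat.card D := orderOf_eq_card_of_forall_mem_zpowers hx
    obtain ⟨k, hk⟩ := hP x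
    have hk' : (x : H) ^ 2 ^ k = 1 := by rw [← Subgroup.coe_pow, hk]; rfl
    have h7 : Fintype.card (Fin (m + 1)) ≤ 7 := by rw [Fintype.card_fin]; omega
    have h4 : (σ x : Perm (Fin (m + 1))) ^ 4 = 1 := sm6_pow_four h7 (k := k) (by
      rw [← Subgroup.coe_pow, ← map_pow, hk', map_one]; rfl)
    by_cases h2 : (σ x : Perm (Fin (m + 1))) ^ 2 = 1
    · refine goal_of_sq hM hB hD hχ ?_
      have h1 : (x : H) ^ 2 ∈ σ.ker := by
        rw [MonoidHom.mem_ker, map_pow]; exact Subtype.ext h2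
      have h3 : orderOf x ∣ 12 := by
        have := Subgroup.orderOf_dvd_natCard _ h1
        rw [h6, orderOf_dvd_iff_pow_eq_one, ← pow_mul] at this
        rw [orderOf_dvd_iff_pow_eq_one]
        exact Subtype.ext this
      obtain ⟨j, -, hj⟩ := (Nat.dvd_prime_pow Nat.prime_two).1 (orderOf_dvd_of_pow_eq_one hk)
      rw [← hox, hj]
      refine Nat.pow_le_pow_right two_pos ?_
      by_contra h
      have : 2 ^ 3 ∣ 12 := (pow_dvd_pow 2 (show 3 ≤ j by omega)).trans (hj ▸ h3)
      omega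
    · exfalso
      obtain ⟨y, hy, hS⟩ := Block.exists_isDefectClass_sylIn hD
      have hodd := Block.not_dvd_orderOf_of_isDefectClass hM hB hy
      have hxy : y * x = x * y := (Subgroup.mem_centralizer_singleton_iff.1 (hS.le x.2)).symm
      have hy1 : (σ y : Perm (Fin (m + 1))) = 1 := by
        refine sm6_eq_one h7 h4 h2 (σ x).2 ?_ fun h => hodd (h.trans ?_)
        · rw [← Subgroup.coe_mul, ← Subgroup.coe_mul, ← map_mul, ← map_mul, hxy]
        · rw [Subgroup.orderOf_coe]; exact orderOf_map_dvd σ y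
      have hyZ : y ∈ Subgroup.center H := hσ.2.1 (Subtype.ext hy1)
      have htop : BrPair.Ce y = ⊤ := by
        rw [eq_top_iff]
        intro g _
        exact Subgroup.mem_centralizer_singleton_iff.2 (Subgroup.mem_center_iff.1 hyZ g)
      rw [htop] at hS
      have hS' := hS.map σ
      rw [Subgroup.map_top_of_surjective _ hσ.1] at hS'
      have hnd := hS'.not_dvd_relIndex
      rw [Subgroup.relIndex_top_right] at hnd
      have hE : D.map σ = Subgroup.zpowers (σ x) := by
        rw [← MonoidHom.map_zpowers]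
        congr 1
        refine le_antisymm (fun g hg => ?_) (by simp)
        obtain ⟨i, hi⟩ := hx ⟨g, hg⟩
        exact ⟨i, congrArg Subtype.val hi⟩
      have hc4 : Nat.card (D.map σ) ∣ 4 := by
        rw [hE, Nat.card_zpowers, orderOf_dvd_iff_pow_eq_one]
        exact Subtype.ext h4
      have : Nontrivial (Fin (m + 1)) := Fin.nontrivial_iff_two_le.2 (by omega)
      have h8 : 8 ∣ Nat.card (alternatingGroup (Fin (m + 1))) := by
        rw [nat_card_alternatingGroup, Nat.card_eq_fintype_card, Fintype.card_fin]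
        rcases hm with rfl | rfl <;> decide
      rw [← (D.map σ).card_mul_index] at h8
      have h9 : 4 * 2 ∣ 4 * (D.map σ).index := h8.trans (Nat.mul_dvd_mul_right hc4 _)
      exact hnd (Nat.dvd_of_mul_dvd_mul_left (by norm_num) h9)
  · have hab : a * b ≠ b * a := by
      intro h
      rw [← h, mul_inv_cancel_right, eq_inv_iff_mul_eq_one, ← pow_two,
        ← orderOf_dvd_iff_pow_eq_one, ha] at hba
      have := (pow_dvd_pow 2 hk).trans hba
      omega
    refine goal_of_center hM hB hD hχ (fun h => hab (h.is_comm.comm a b)) ?_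
    have hsub : ∀ x ∈ Subgroup.center D, (x : H) = 1 ∨ (x : H) = z := by
      intro x hx
      rw [Subgroup.mem_center_iff] at hx
      obtain ⟨i, rfl | rfl⟩ := Frob.exists_eq_zpow_or_of_index_two hi hb x
      · apply hz
        have h1 : b * a ^ i * b⁻¹ = (a ^ i)⁻¹ := by rw [← conj_zpow, hba, inv_zpow]
        rw [hx b, mul_inv_cancel_right, eq_inv_iff_mul_eq_one] at h1
        rw [← Subgroup.coe_mul, h1]; rfl
      · exfalso
        apply hab
        have h1 := hx a
        rw [← mul_assoc, ← (Commute.zpow_self a i).eq, mul_assoc, mul_assoc] at h1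
        exact mul_left_cancel h1
    classical
    calc Nat.card (Subgroup.center D) ≤ Nat.card ({1, z} : Finset H) :=
          Nat.card_le_card_of_injective
            (fun x => ⟨((x : D) : H), by simpa using hsub x x.2⟩)
            (fun x y h => Subtype.ext (Subtype.ext (by simpa using h)))
      _ ≤ 2 := by
        rw [Nat.card_eq_fintype_card, Fintype.card_coe]
        exact Finset.card_le_two

end CfsgLib.Spn
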