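import Mathlib
import Cfsg.Agent.Lib.Spn.Idx
import Cfsg.Agent.Lib.Spn.Sp2
import Cfsg.Agent.Lib.Spn.Alt2
import Cfsg.Agent.Lib.Spn.Sm3
import Cfsg.Agent.Lib.Spn.Sm6

/-! Assembly of project SPN. -/

set_option autoImplicit false

namespace CfsgLib.Spn

open Cfsg

theorem all_of_stem {H : Type*} [Group H] [Finite H] {m p : ℕ} {M : Ideal AlgInt} (hm : 4 ≤ m)
    {σ : H →* alternatingGroup (Fin (m + 1))} (hσ : IsStemExtension σ) (hM : IsPModular p M) :
    All p M H := by
  have : Nontrivial (Fin (m + 1)) := Fin.nontrivial_iff_two_le.2 (by omega)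
  have h6 := card_ker_dvd hm hσ
  have hs : 3 ∣ Nat.card σ.ker → m = 5 ∨ m = 6 := fun h3 => by
    by_contra h
    obtain ⟨b, -, hb, hk⟩ := AltCover.ker_le_two (by omega) (by omega) (by omega) hσ
    have h1 := h3.trans (Subgroup.card_dvd_of_le hk)
    rw [Nat.card_zpowers] at h1
    exact absurd (h1.trans (orderOf_dvd_of_pow_eq_one hb)) (by norm_num)
  have h7 : Nat.card σ.ker = 1 ∨ Nat.card σ.ker = 2 ∨ Nat.card σ.ker = 3 ∨ Nat.card σ.ker = 6 := by
    have := Nat.le_of_dvd (by norm_num) h6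
    generalize Nat.card σ.ker = k at *
    interval_cases k <;> simp_all
  rcases h7 with h | h | h | h
  · have e : H ≃* alternatingGroup (Fin (m + 1)) := MulEquiv.ofBijective σ
      ⟨(MonoidHom.ker_eq_bot_iff σ).1 (Subgroup.card_eq_one.1 h), hσ.1⟩
    by_cases h2 : p = 2
    · subst h2; exact (all_alt_two hM).of_equiv hM e
    · exact (all_alt_odd hM h2).of_equiv hM e
  · obtain ⟨G, _, _, ⟨S⟩⟩ := exists_sp (Fin (m + 1))
    obtain ⟨e⟩ := nonempty_equiv_of_card_two hm hσ (S.stem (by simp; omega)) h S.card_ker_πe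
    by_cases h2 : p = 2
    · subst h2; exact (S.all_two hM).of_equiv hM e
    · exact (S.all_odd hM h2).of_equiv hM e
  · by_cases h2 : p = 2
    · subst h2; exact all_small_three (hs (h ▸ dvd_rfl)) hσ h hM
    · exact all_small_odd (hs (h ▸ dvd_rfl)) hσ (h ▸ dvd_rfl) hM h2
  · by_cases h2 : p = 2
    · subst h2; exact all_small_six (hs (h ▸ by norm_num)) hσ h hM
    · exact all_small_odd (hs (h ▸ by norm_num)) hσ (h ▸ by norm_num) hM h2

end CfsgLib.Spn
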